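import Cfsg.Agent.H49.SPSimple_m3
import Cfsg.Agent.H859.M24Eleven
import Cfsg.Agent.SporadicA.M24.Sylow23
import Cfsg.Agent.S0365
import Cfsg.Agent.H865.RhoEleven
import Cfsg.Agent.Prune
set_option linter.all false
prune_inst 0x7f00000000000000000000000000000000000000000000000000000000000000000000000000000000000000000000000000000000000000000000000000000000000000000000000000000000000000003fffffffffffffffffffffffffffbeffbdffffffff
open scoped Cfsg.Agent.FastGrp

/-!
# `M24` has no strongly 3-embedded subgroup (helper859)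

`exists_norm` : Sylow counting in a subgroup `H` for a prime `p` with `p ∥ |G|`.
-/

set_option autoImplicit false

namespace Cfsg.Agent.H859.StrP

open Cfsg Subgroup Cfsg.Agent.H998.StrP Cfsg.Agent.EvenType.StrongP

/-- Sylow counting in the subgroup `H`, when all the normalizers of the subgroups of order `p` of `G` have
order `m`. -/
theorem exists_norm {G : Type*} [Group G] [Finite G] {p : ℕ} [hp : Fact p.Prime] {m : ℕ}
    (hN : ∀ R : Subgroup G, Nat.card R = p → Nat.card (normalizer (R : Set G)) = m)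
    (hpp : ¬ p * p ∣ Nat.card G) {H : Subgroup G} (h : p ∣ Nat.card H) :
    ∃ d i : ℕ, d ∣ m ∧ p ∣ d ∧ d * i = Nat.card H ∧ i % p = 1 := by
  obtain ⟨R⟩ : Nonempty (Sylow p H) := inferInstance
  have hR : Nat.card (R : Subgroup H) = p := by
    obtain ⟨n, hn⟩ := (IsPGroup.iff_card (p := p) (G := (R : Subgroup H))).1 R.isPGroup'
    have h1 : Nat.card (R : Subgroup H) ∣ Nat.card G := (card_subgroup_dvd_card _).trans (card_subgroup_dvd_card H)
    have h2 : p ∣ Nat.card (R : Subgroup H) := R.dvd_card_of_dvd_card h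
    rw [hn] at h1 h2 ⊢
    have h3 : n ≠ 0 := by
      rintro rfl
      rw [pow_zero] at h2
      exact hp.out.one_lt.ne' (Nat.dvd_one.1 h2)
    have h4 : n < 2 := by
      by_contra h4
      apply hpp
      rw [← pow_two]
      exact (pow_dvd_pow p (not_lt.1 h4)).trans h1
    have h5 : n = 1 := by omega
    rw [h5, pow_one]
  have h1 := card_sylow_modEq_one p H
  have h2 := R.card_eq_index_normalizer
  have h3 := (normalizer ((R : Subgroup H) : Set H)).card_mul_index
  refine ⟨Nat.card (normalizer ((R : Subgroup H) : Set H)), (normalizer ((R : Subgroup H) : Set H)).index, ?_, ?_, h3, ?_⟩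
  · rw [← hN ((R : Subgroup H).map H.subtype) (by rw [card_map_of_injective H.subtype_injective, hR])]
    have h4 : (normalizer ((R : Subgroup H) : Set H)).map H.subtype ≤
        normalizer ((((R : Subgroup H).map H.subtype : Subgroup G)) : Set G) := le_normalizer_map _
    have h5 := card_dvd_of_le h4
    rwa [card_map_of_injective H.subtype_injective] at h5
  · have h4 : Nat.card (R : Subgroup H) ∣ Nat.card (normalizer ((R : Subgroup H) : Set H)) :=
      card_dvd_of_le le_normalizer
    rwa [hR] at h4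
  · have h5 : (normalizer ((R : Subgroup H) : Set H)).index = Nat.card (Sylow p H) := h2.symm
    rw [h5]
    have h4 : Nat.card (Sylow p H) % p = 1 % p := h1
    rw [h4, Nat.mod_eq_of_lt hp.out.one_lt]

open Cfsg.Agent.H858.M24Norm

theorem norm23 (R : Subgroup M24) (hR : Nat.card R = 23) : Nat.card (normalizer (R : Set M24)) = 253 := by
  have : Fact (Nat.Prime 23) := ⟨by norm_num⟩
  have hsimple : IsSimpleGroup M24 := Cfsg.Agent.S0365.result
  have h1 : ¬ 23 ∣ R.index := Cfsg.Agent.H858.NormC.not_dvd_index hR (by rw [card_M24]; norm_num)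
  have h2 : IsPGroup 23 R := Cfsg.Agent.H858.NormC.isPGroup_of_card hR
  exact Cfsg.Agent.SporadicA.M24.Sylow23.card_normalizer card_M24 (h2.toSylow h1)

theorem norm11 (R : Subgroup M24) (hR : Nat.card R = 11) : Nat.card (normalizer (R : Set M24)) = 110 := by
  have : Fact (Nat.Prime 11) := ⟨by norm_num⟩
  have h1 : ¬ 11 * 11 ∣ Nat.card M24 := by rw [card_M24]; norm_num
  rw [← Cfsg.Agent.H859.M24Eleven.card_normalizer_F]
  exact Cfsg.Agent.H859.PrimeSub.card_normalizer_eq hR Cfsg.Agent.H859.M24Eleven.card_F h1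

/-- an element of order 3 commutes with an element of order 7 -/
theorem exists_comm_seven : ∃ x : M24, orderOf x = 3 ∧ x * s = s * x := by
  obtain ⟨j, hj, h1⟩ := Cfsg.Agent.H858.NormC.exists_card_normalizer_prime (by norm_num) card_S
  rw [card_normalizer_S] at h1
  have h2 : 3 ∣ Nat.card (centralizer (S : Set M24)) := by
    have h3 : j ∣ 6 := hj
    have h4 : j ≤ 6 := Nat.le_of_dvd (by norm_num) h3
    set c := Nat.card (centralizer (S : Set M24)) with hc
    clear_value c
    interval_cases j <;> omega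
  obtain ⟨x, hx⟩ := exists_prime_orderOf_dvd_card' 3 h2
  refine ⟨x, by rw [Subgroup.orderOf_coe, hx], ?_⟩
  exact ((mem_centralizer_iff.1 x.2) s (mem_zpowers s)).symm

/-- **`M24` has no strongly 3-embedded subgroup.** -/
theorem m24_3 : NoSP 3 M24 := by
  intro H hH
  have f3 : Fact (Nat.Prime 3) := ⟨Nat.prime_three⟩
  have f11 : Fact (Nat.Prime 11) := ⟨by norm_num⟩
  have f23 : Fact (Nat.Prime 23) := ⟨by norm_num⟩
  have h5 : 5 ∣ Nat.card H := orderOf_q ▸ orderOf_dvd_of_commute hH orderOf_c c_mul_q
  have h7 : 7 ∣ Nat.card H := by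
    obtain ⟨x, hx, hxs⟩ := exists_comm_seven
    exact orderOf_s ▸ orderOf_dvd_of_commute hH hx hxs
  have h35 : 35 ∣ Nat.card H := Nat.Coprime.mul_dvd_of_dvd_of_dvd (by norm_num) h5 h7
  have hi := H.card_mul_index
  rw [card_M24] at hi
  obtain ⟨c, hc⟩ := h35
  obtain ⟨k, hk⟩ := index_mod_pow hH (a := 3) (by rw [card_M24]; norm_num)
  have hcop := index_coprime hH
  have h2 : H.index ∣ val [(2, 10), (11, 1), (23, 1)] := by
    have h3 : H.index ∣ 27 * val [(2, 10), (11, 1), (23, 1)] := by
      have h4 : c * H.index = 27 * val [(2, 10), (11, 1), (23, 1)] := by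
        apply Nat.eq_of_mul_eq_mul_left (show 0 < 35 by norm_num)
        rw [← mul_assoc, ← hc, hi]
        norm_num [val]
      rw [← h4]
      exact Dvd.intro_left _ rfl
    exact (Nat.Coprime.dvd_mul_left (show H.index.Coprime 27 from by
      rw [show 27 = 3 ^ 3 by norm_num]; exact Nat.Coprime.pow_right 3 hcop)).1 h3
  have h3 := mem_divs (primes_of (by decide)) h2
  have h4 : ∀ n ∈ divs [(2, 10), (11, 1), (23, 1)], n % 27 = 1 → n = 1 ∨ n = 352 ∨ n = 2944 := by
    decide +kernel
  have h6 : H.index % 27 = 1 := by rw [hk]; omega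
  rcases h4 _ h3 h6 with h | h | h
  · exact hH.2.1 (index_eq_one.1 h)
  · rw [h] at hi
    have hH' : Nat.card H = 695520 := by omega
    obtain ⟨d, i, hd, hpd, hdi, hi1⟩ := exists_norm norm23 (by rw [card_M24]; norm_num) (H := H)
      (by rw [hH']; norm_num)
    rw [hH'] at hdi
    obtain ⟨e, rfl⟩ := hpd
    have he : e ∣ 11 := Nat.dvd_of_mul_dvd_mul_left (show 0 < 23 by norm_num) hd
    have he' : e ≤ 11 := Nat.le_of_dvd (by norm_num) he
    interval_cases e <;> omega
  · rw [h] at hi
    have hH' : Nat.card H = 83160 := by omega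
    obtain ⟨d, i, hd, hpd, hdi, hi1⟩ := exists_norm norm11 (by rw [card_M24]; norm_num) (H := H)
      (by rw [hH']; norm_num)
    rw [hH'] at hdi
    obtain ⟨e, rfl⟩ := hpd
    have he : e ∣ 10 := Nat.dvd_of_mul_dvd_mul_left (show 0 < 11 by norm_num) hd
    have he' : e ≤ 10 := Nat.le_of_dvd (by norm_num) he
    interval_cases e <;> omega

end Cfsg.Agent.H859.StrP
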